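import Groth.Agent.GGDesc.Basic
import Groth.Agent.GrpField.FlatPoint
import Groth.Agent.QC.Support
import Groth.Agent.QC.Coherent

/-!
# Global generation near a point of the base
-/

set_option autoImplicit false
set_option backward.isDefEq.respectTransparency false
set_option linter.style.haveILetI false

universe u

open CategoryTheory CategoryTheory.Limits AlgebraicGeometry TopologicalSpace Opposite
open Groth.Agent _root_.TMul

noncomputable section

namespace Groth.Agent.GGDesc

variable {X X' S S' : Scheme.{u}} {f : X ⟶ S} {g : S' ⟶ S} {g' : X' ⟶ X} {f' : X' ⟶ S'}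

/-- the evaluation of global sections -/
def evMap (F : X.Modules) : (SheafOfModules.free (R := X.ringCatSheaf) Γ(F, ⊤) : X.Modules) ⟶ F :=
  Sigma.desc fun t : Γ(F, ⊤) => homOf t

theorem subsingleton_stalk_coker [IsAffine S] [IsAffine S'] [QuasiCompact f]
    [QuasiSeparated f] [Flat g] (H : IsPullback g' f' f g) {F : X.Modules} (hF : Coh.IsQCoh F)
    (h : Curv2.IsGloballyGenerated ((Scheme.Modules.pullback g').obj F)) (x' : X') :
    Subsingleton ((cokernel (evMap F) : X.Modules).presheaf.stalk (g' x')) := by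
  haveI : Flat g' := MorphismProperty.of_isPullback H.flip ‹Flat g›
  let π : F ⟶ (cokernel (evMap F) : X.Modules) := cokernel.π (evMap F)
  have hπ : ∀ t : Γ(F, ⊤), π.app ⊤ t = 0 := fun t => by
    have h1 : homOf t ≫ π = 0 := by
      rw [show homOf t = Sigma.ι (fun _ : Γ(F, ⊤) => (SheafOfModules.unit X.ringCatSheaf : X.Modules)) t ≫ evMap F from
        (Sigma.ι_desc _ t).symm, Category.assoc, cokernel.condition, comp_zero]
    have h2 := congrArg (fun c => val c ⊤) h1
    simp only [val_comp, val_homOf, Groth.Agent.QC.res_self] at h2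
    exact h2.trans rfl
  let P := Scheme.Modules.pullback g'
  obtain ⟨ι, p, hp⟩ := h
  have h0 : P.map π = 0 := by
    rw [← cancel_epi p, comp_zero]
    refine Sigma.hom_ext _ _ fun i => ?_
    rw [comp_zero]
    refine hom_ext_val ?_
    obtain ⟨k, b, m, hz⟩ := AmpleDesc.exists_combination H hF
      (val (Sigma.ι (fun _ : ι => (SheafOfModules.unit X'.ringCatSheaf : X'.Modules)) i ≫ p) ⊤)
    rw [← Category.assoc, val_comp, hz, map_sum]
    refine (Finset.sum_eq_zero fun j _ => ?_).trans rfl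
    refine ((P.map π).val.app (op ⊤)).hom.map_smul _ _ |>.trans ?_
    have h3 : (P.map π).app ⊤ (AmpleDesc.eta g' F (m j)) = AmpleDesc.eta g' _ (π.app ⊤ (m j)) := by
      have h4 := congr(($((Scheme.Modules.pullbackPushforwardAdjunction g').unit.naturality π)).app ⊤ (m j))
      exact h4.symm
    refine Eq.trans (congrArg (fun q => HSMul.hSMul (α := Γ(X', ⊤)) (f'.appTop (b j)) q) h3) ?_
    rw [hπ, AmpleDesc.eta, map_zero]
    exact smul_zero _
  haveI : Epi (P.map π) := inferInstance
  exact subsingleton_stalk_of_pullback (cokernel (evMap F) : X.Modules) (IsZero.of_epi_eq_zero _ h0) x'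

theorem isGloballyGenerated_of_iso {F G : X.Modules} (e : F ≅ G) (h : Curv2.IsGloballyGenerated F) :
    Curv2.IsGloballyGenerated G := by
  obtain ⟨ι, p, hp⟩ := h
  exact ⟨ι, p ≫ e.hom, inferInstance⟩

theorem isGloballyGenerated_pullback_of_coker {W : Scheme.{u}} (j : W ⟶ X) [IsOpenImmersion j] {F : X.Modules}
    (h : ∀ w : W, Subsingleton ((cokernel (evMap F) : X.Modules).presheaf.stalk (j w))) :
    Curv2.IsGloballyGenerated ((Scheme.Modules.pullback j).obj F) := by
  let P := Scheme.Modules.pullback j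
  let Q : X.Modules := cokernel (evMap F)
  have hres : IsZero (P.obj Q) := by
    rw [IsZero.iff_id_eq_zero]
    refine Scheme.Modules.hom_ext _ _ fun U => ?_
    ext s
    refine TopCat.Presheaf.section_ext (Groth.Agent.QC.abSheaf (P.obj Q)) U _ _ fun w hw => ?_
    haveI := h w
    letI := (j.stalkMap w).hom.toAlgebra
    haveI : Subsingleton ((P.obj Q).presheaf.stalk w) := by
      refine (AssTensor.pullEquiv j Q w).symm.injective.subsingleton
    exact Subsingleton.elim (α := (P.obj Q).presheaf.stalk w) _ _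
  have hepi : Epi (P.map (evMap F)) := by
    refine ⟨fun {T} a b hab => ?_⟩
    let adj := Scheme.Modules.pullbackPushforwardAdjunction j
    have h1 : evMap F ≫ (adj.homEquiv F T a - adj.homEquiv F T b) = 0 := by
      rw [Preadditive.comp_sub, ← adj.homEquiv_naturality_left, ← adj.homEquiv_naturality_left, hab, sub_self]
    let d := cokernel.desc (evMap F) _ h1
    have h2 : P.map (cokernel.π (evMap F) ≫ d) = 0 := by
      rw [P.map_comp, hres.eq_of_src (P.map d) 0, comp_zero]
    rw [cokernel.π_desc, P.map_sub, sub_eq_zero] at h2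
    have h3 := congrArg (fun c => c ≫ adj.counit.app T) h2
    erw [← adj.homEquiv_counit, ← adj.homEquiv_counit, Equiv.symm_apply_apply, Equiv.symm_apply_apply] at h3
    exact h3
  obtain ⟨ι, p, hp⟩ := isGloballyGenerated_pullback j (F := (SheafOfModules.free (R := X.ringCatSheaf) Γ(F, ⊤) : X.Modules))
    ⟨Γ(F, ⊤), 𝟙 _, inferInstance⟩
  exact ⟨ι, p ≫ P.map (evMap F), inferInstance⟩

theorem exists_nhd {X Y : Scheme.{u}} (f : X ⟶ Y) [IsProper f] (L : X.Modules) (hL : Coh.IsCoh L) (y : Y)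
    (h : Curv2.IsGloballyGenerated ((Scheme.Modules.pullback (pullback.fst f (Y.fromSpecStalk y))).obj L)) :
    ∃ V : Y.Opens, y ∈ V ∧ Curv2.IsGloballyGenerated (L.restrict (f ⁻¹ᵁ V).ι) := by
  obtain ⟨U, hU, hyU, -⟩ := exists_isAffineOpen_mem_and_subset (X := Y) (U := ⊤) (trivial : y ∈ (⊤ : Y.Opens))
  haveI : IsAffine U.toScheme := hU
  let gU := U.fromSpecStalkOfMem y hyU
  haveI : Flat gU := by
    haveI := GrpField.flat_fromSpecStalk (X := U.toScheme) ⟨y, hyU⟩
    show Flat (Spec.map (inv (U.ι.stalkMap ⟨y, hyU⟩)) ≫ U.toScheme.fromSpecStalk ⟨y, hyU⟩)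
    infer_instance
  let fU := f ∣_ U
  let g' := pullback.fst fU gU
  have H : IsPullback g' (pullback.snd fU gU) fU gU := IsPullback.of_hasPullback _ _
  have H2 : IsPullback (g' ≫ (f ⁻¹ᵁ U).ι) (pullback.snd fU gU) f (Y.fromSpecStalk y) := by
    rw [← U.fromSpecStalkOfMem_ι y hyU]
    exact H.paste_horiz (isPullback_morphismRestrict f U).flip
  let F := (Scheme.Modules.pullback (f ⁻¹ᵁ U).ι).obj L
  have hFc : Coh.IsCoh F := QC.isCoh_pullback _ hL
  have hgg : Curv2.IsGloballyGenerated ((Scheme.Modules.pullback g').obj F) := by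
    refine isGloballyGenerated_of_iso ?_ (isGloballyGenerated_pullback H2.isoPullback.hom h)
    exact (Scheme.Modules.pullbackComp _ _).app L ≪≫
      (Scheme.Modules.pullbackCongr H2.isoPullback_hom_fst).app L ≪≫
      ((Scheme.Modules.pullbackComp g' (f ⁻¹ᵁ U).ι).app L).symm
  let Q : (f ⁻¹ᵁ U).toScheme.Modules := cokernel (evMap F)
  have hfree : Coh.IsQCoh (SheafOfModules.free (R := (f ⁻¹ᵁ U).toScheme.ringCatSheaf) Γ(F, ⊤) : (f ⁻¹ᵁ U).toScheme.Modules) :=
    QC.isQCoh_colimit _ fun _ => QC.isQCoh_unit _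
  have hQc : Coh.IsCoh Q := QC.isCoh_cokernel hfree hFc _
  haveI : Q.IsQuasicoherent := hQc.1
  have hclosed : IsClosed (CohB1.support Q) := QC.isClosed_support hQc.2
  have hC : IsClosed (fU '' CohB1.support Q) := fU.isClosedMap _ hclosed
  have hy : (⟨y, hyU⟩ : U.toScheme) ∉ fU '' CohB1.support Q := by
    rintro ⟨x, hx, hxy⟩
    have hyg : (⟨y, hyU⟩ : U.toScheme) = gU (IsLocalRing.closedPoint _) := Subtype.ext (by
      have := congrArg (fun m => m (IsLocalRing.closedPoint (Y.presheaf.stalk y))) (U.fromSpecStalkOfMem_ι y hyU)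
      simp only [Scheme.Hom.comp_apply, Scheme.fromSpecStalk_closedPoint] at this
      exact this.symm)
    obtain ⟨x', hx', -⟩ := Scheme.Pullback.exists_preimage_pullback (f := fU) (g := gU) x
      (IsLocalRing.closedPoint _) (hxy.trans hyg)
    subst hx'
    exact hx (subsingleton_stalk_coker H hFc.1 hgg x')
  let V₀ : U.toScheme.Opens := ⟨(fU '' CohB1.support Q)ᶜ, hC.isOpen_compl⟩
  refine ⟨U.ι ''ᵁ V₀, ⟨⟨y, hyU⟩, hy, rfl⟩, ?_⟩
  have hle : f ⁻¹ᵁ (U.ι ''ᵁ V₀) ≤ f ⁻¹ᵁ U := fun x hx => by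
    obtain ⟨v, -, hv⟩ := hx
    show f x ∈ U
    rw [← hv]
    exact v.2
  let j := X.homOfLE hle
  have hj : ∀ w, Subsingleton (Q.presheaf.stalk (j w)) := fun w => by
    by_contra hw
    obtain ⟨v, hv, hvw⟩ := (w.2 : w.1 ∈ f ⁻¹ᵁ (U.ι ''ᵁ V₀))
    refine hv ⟨j w, hw, Subtype.ext ?_⟩
    have h5 := congrArg (fun m => m (j w)) (morphismRestrict_ι f U)
    simp only [Scheme.Hom.comp_apply] at h5
    have h6 : (f ⁻¹ᵁ U).ι (j w) = w.1 := congrArg (fun m => m w) (X.homOfLE_ι hle)
    rw [h6] at h5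
    exact h5.trans hvw.symm
  refine isGloballyGenerated_of_iso ?_ (isGloballyGenerated_pullback_of_coker j hj)
  exact (Scheme.Modules.pullbackComp j (f ⁻¹ᵁ U).ι).app L ≪≫
    (Scheme.Modules.pullbackCongr (X.homOfLE_ι hle)).app L ≪≫
    ((Scheme.Modules.restrictFunctorIsoPullback _).app L).symm

end Groth.Agent.GGDesc
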